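import Cfsg.Agent.Spor.C3K.D0

set_option autoImplicit false
set_option maxRecDepth 100000000
set_option Elab.async false

namespace Cfsg.Agent.Spor.C3K

theorem ok0 : Net.okb 8 n0 = true := by decide +kernel

theorem ok1 : Net.okb 8 n1 = true := by decide +kernel

theorem ok2 : Net.okb 8 n2 = true := by decide +kernel

theorem ok3 : Net.okb 8 n3 = true := by decide +kernel

theorem rel0 : T.rel 8 [1, 1] 0 8 = true := by decide +kernel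

theorem rel1 : T.rel 8 [2, 2] 0 8 = true := by decide +kernel

theorem rel2 : T.rel 8 [3, 3] 0 8 = true := by decide +kernel

theorem rel3 : T.rel 8 [4, 4] 0 8 = true := by decide +kernel

theorem rel4 : T.rel 8 [2, 1, 2, 1, 2, 1, 2, 1] 0 8 = true := by decide +kernel

theorem rel5 : T.rel 8 [4, 1, 4, 1, 4, 1, 4, 1, 4, 1, 4, 1] 0 8 = true := by decide +kernel

theorem rel6 : T.rel 8 [4, 2, 4, 2, 4, 2, 4, 2] 0 8 = true := by decide +kernel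

theorem rel7 : T.rel 8 [1, 2, 1, 2, 4, 1, 2, 1, 2, 4, 2, 1, 2, 1, 4] 0 8 = true := by decide +kernel

theorem rel8 : T.rel 8 [1, 2, 4, 1, 2, 4, 2, 4, 1, 4, 1, 2, 4, 2, 4, 1, 4, 2, 1, 4, 2, 4] 0 8 = true := by decide +kernel

theorem rel9 : T.rel 8 [1, 2, 1, 4, 1, 4, 1, 2, 4, 1, 2, 4, 1, 2, 4, 1, 2, 4, 1, 2, 4, 2, 1, 2, 4] 0 8 = true := by decide +kernel

theorem rel10 : T.rel 8 [3, 1, 3, 1, 3, 1, 3, 1, 3, 1, 3, 1] 0 8 = true := by decide +kernel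

theorem rel11 : T.rel 8 [4, 3, 4, 3, 4, 3, 4, 3] 0 8 = true := by decide +kernel

theorem rel12 : T.rel 8 [1, 3, 1, 3, 1, 3, 4, 3, 1, 4, 3, 4, 3, 1, 3, 1, 4, 1, 4] 0 8 = true := by decide +kernel

theorem rel13 : T.rel 8 [1, 3, 1, 3, 4, 1, 3, 1, 4, 1, 3, 1, 3, 4, 1, 3, 1, 4] 0 8 = true := by decide +kernel

theorem rel14 : T.rel 8 [3, 2, 3, 2, 3, 2, 3, 2, 3, 2, 3, 2] 0 8 = true := by decide +kernel

theorem rel15 : T.rel 8 [3, 4, 2, 4, 2, 3, 4] 0 8 = true := by decide +kernel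

theorem rel16 : T.rel 8 [3, 1, 3, 1, 3, 2, 4, 1, 2, 1, 4, 1, 2, 4, 1, 4, 2, 1, 2] 0 8 = true := by decide +kernel

theorem rel17 : T.rel 8 [3, 2, 1, 2, 3, 1, 2, 3, 2, 3, 2, 1, 3, 2, 1, 2, 3, 1, 4, 1] 0 8 = true := by decide +kernel

theorem hcov : T.treeCov (ones 135) L 1 = true := by decide +kernel

theorem hg : lall (fun z => band (memL L z) (band (sub (ones 135) (T.let z).cl) (T.closed (ones 135) z))) gs = true := by decide +kernel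

theorem rot1_1 : T.rot 1 [1] (sel (ones 135) ip1 1) = true := by decide +kernel

theorem rot1_1r : band (Rule.ok (2 * 4) EX RL ⟨1 :: [1], [], 14, false⟩) (lall (memL L) [1]) = true := by decide +kernel

theorem rot1_2 : T.rot 1 [2, 1, 2, 1, 2, 1, 2] (sel (ones 135) ip1 2) = true := by decide +kernel

theorem rot1_2r : band (Rule.ok (2 * 4) EX RL ⟨1 :: [2, 1, 2, 1, 2, 1, 2], [], 0, false⟩) (lall (memL L) [2, 1, 2, 1, 2, 1, 2]) = true := by decide +kernel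

theorem rot1_3 : T.rot 1 [2, 4, 1, 2, 1, 2, 4, 2, 1, 2, 1, 4, 1, 2] (sel (ones 135) ip1 3) = true := by decide +kernel

theorem rot1_3r : band (Rule.ok (2 * 4) EX RL ⟨1 :: [2, 4, 1, 2, 1, 2, 4, 2, 1, 2, 1, 4, 1, 2], [0, 2], 3, true⟩) (lall (memL L) [2, 4, 1, 2, 1, 2, 4, 2, 1, 2, 1, 4, 1, 2]) = true := by decide +kernel

theorem rot1_4 : T.rot 1 [2, 4, 2, 1, 2, 1, 4, 1, 2, 1, 2, 4, 1, 2] (sel (ones 135) ip1 4) = true := by decide +kernel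

theorem rot1_4r : band (Rule.ok (2 * 4) EX RL ⟨1 :: [2, 4, 2, 1, 2, 1, 4, 1, 2, 1, 2, 4, 1, 2], [0, 2, 0, 2, 6, 0, 2], 3, true⟩) (lall (memL L) [2, 4, 2, 1, 2, 1, 4, 1, 2, 1, 2, 4, 1, 2]) = true := by decide +kernel

theorem rot1_5 : T.rot 1 [2, 1, 4, 1, 2, 1, 2, 4, 1, 2, 1, 2, 4, 2] (sel (ones 135) ip1 5) = true := by decide +kernel

theorem rot1_5r : band (Rule.ok (2 * 4) EX RL ⟨1 :: [2, 1, 4, 1, 2, 1, 2, 4, 1, 2, 1, 2, 4, 2], [6, 0, 2, 0], 3, true⟩) (lall (memL L) [2, 1, 4, 1, 2, 1, 2, 4, 1, 2, 1, 2, 4, 2]) = true := by decide +kernel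

theorem rot1_6 : T.rot 1 [2, 1, 4, 2, 1, 2, 1, 4, 1, 2, 1, 2, 4, 2] (sel (ones 135) ip1 6) = true := by decide +kernel

theorem rot1_6r : band (Rule.ok (2 * 4) EX RL ⟨1 :: [2, 1, 4, 2, 1, 2, 1, 4, 1, 2, 1, 2, 4, 2], [6, 0, 2, 0, 2, 6, 2], 3, false⟩) (lall (memL L) [2, 1, 4, 2, 1, 2, 1, 4, 1, 2, 1, 2, 4, 2]) = true := by decide +kernel

theorem rot1_7 : T.rot 1 [4, 2, 1, 2, 1, 4, 1, 2, 1, 2, 4, 2, 1, 2] (sel (ones 135) ip1 7) = true := by decide +kernel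

theorem rot1_7r : band (Rule.ok (2 * 4) EX RL ⟨1 :: [4, 2, 1, 2, 1, 4, 1, 2, 1, 2, 4, 2, 1, 2], [0, 2, 0, 2, 6, 0], 3, false⟩) (lall (memL L) [4, 2, 1, 2, 1, 4, 1, 2, 1, 2, 4, 2, 1, 2]) = true := by decide +kernel

theorem rot1_8 : T.rot 1 [3, 4, 1, 3, 1, 4, 1, 3, 1, 3, 4, 1, 3, 1, 4, 1, 3] (sel (ones 135) ip1 8) = true := by decide +kernel

theorem rot1_8r : band (Rule.ok (2 * 4) EX RL ⟨1 :: [3, 4, 1, 3, 1, 4, 1, 3, 1, 3, 4, 1, 3, 1, 4, 1, 3], [0, 4], 9, true⟩) (lall (memL L) [3, 4, 1, 3, 1, 4, 1, 3, 1, 3, 4, 1, 3, 1, 4, 1, 3]) = true := by decide +kernel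

theorem rot1_9 : T.rot 1 [3, 1, 4, 1, 3, 1, 3, 4, 1, 3, 1, 4, 1, 3, 1, 3, 4] (sel (ones 135) ip1 9) = true := by decide +kernel

theorem rot1_9r : band (Rule.ok (2 * 4) EX RL ⟨1 :: [3, 1, 4, 1, 3, 1, 3, 4, 1, 3, 1, 4, 1, 3, 1, 3, 4], [6, 0, 4, 0], 9, true⟩) (lall (memL L) [3, 1, 4, 1, 3, 1, 3, 4, 1, 3, 1, 4, 1, 3, 1, 3, 4]) = true := by decide +kernel

theorem rot1_10 : T.rot 1 [4, 1, 3, 1, 3, 4, 1, 3, 1, 4, 1, 3, 1, 3, 4, 1, 3] (sel (ones 135) ip1 10) = true := by decide +kernel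

theorem rot1_10r : band (Rule.ok (2 * 4) EX RL ⟨1 :: [4, 1, 3, 1, 3, 4, 1, 3, 1, 4, 1, 3, 1, 3, 4, 1, 3], [6, 0], 9, true⟩) (lall (memL L) [4, 1, 3, 1, 3, 4, 1, 3, 1, 4, 1, 3, 1, 3, 4, 1, 3]) = true := by decide +kernel

theorem rot1_11 : T.rot 1 [3, 1, 4, 3, 1, 3, 1, 4, 1, 3, 1, 4, 3, 1, 3, 1, 4] (sel (ones 135) ip1 11) = true := by decide +kernel

theorem rot1_11r : band (Rule.ok (2 * 4) EX RL ⟨1 :: [3, 1, 4, 3, 1, 3, 1, 4, 1, 3, 1, 4, 3, 1, 3, 1, 4], [6], 9, false⟩) (lall (memL L) [3, 1, 4, 3, 1, 3, 1, 4, 1, 3, 1, 4, 3, 1, 3, 1, 4]) = true := by decide +kernel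

theorem rot1_12 : T.rot 1 [4, 3, 1, 3, 1, 4, 1, 3, 1, 4, 3, 1, 3, 1, 4, 1, 3] (sel (ones 135) ip1 12) = true := by decide +kernel

theorem rot1_12r : band (Rule.ok (2 * 4) EX RL ⟨1 :: [4, 3, 1, 3, 1, 4, 1, 3, 1, 4, 3, 1, 3, 1, 4, 1, 3], [6, 0, 4], 9, false⟩) (lall (memL L) [4, 3, 1, 3, 1, 4, 1, 3, 1, 4, 3, 1, 3, 1, 4, 1, 3]) = true := by decide +kernel

theorem rot1_13 : T.rot 1 [3, 1, 4, 1, 3, 1, 4, 3, 1, 3, 1, 4, 1, 3, 1, 4, 3] (sel (ones 135) ip1 13) = true := by decide +kernel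

theorem rot1_13r : band (Rule.ok (2 * 4) EX RL ⟨1 :: [3, 1, 4, 1, 3, 1, 4, 3, 1, 3, 1, 4, 1, 3, 1, 4, 3], [0, 4, 0], 9, false⟩) (lall (memL L) [3, 1, 4, 1, 3, 1, 4, 3, 1, 3, 1, 4, 1, 3, 1, 4, 3]) = true := by decide +kernel

theorem rot1_14 : T.rot 1 [3, 1, 3, 1, 3, 4, 3, 1, 4, 3, 4, 3, 1, 3, 1, 4, 1, 4] (sel (ones 135) ip1 14) = true := by decide +kernel

theorem rot1_14r : band (Rule.ok (2 * 4) EX RL ⟨1 :: [3, 1, 3, 1, 3, 4, 3, 1, 4, 3, 4, 3, 1, 3, 1, 4, 1, 4], [], 8, true⟩) (lall (memL L) [3, 1, 3, 1, 3, 4, 3, 1, 4, 3, 4, 3, 1, 3, 1, 4, 1, 4]) = true := by decide +kernel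

theorem rot1_15 : T.rot 1 [3, 1, 3, 4, 3, 1, 4, 3, 4, 3, 1, 3, 1, 4, 1, 4, 1, 3] (sel (ones 135) ip1 15) = true := by decide +kernel

theorem rot1_15r : band (Rule.ok (2 * 4) EX RL ⟨1 :: [3, 1, 3, 4, 3, 1, 4, 3, 4, 3, 1, 3, 1, 4, 1, 4, 1, 3], [0, 4], 8, true⟩) (lall (memL L) [3, 1, 3, 4, 3, 1, 4, 3, 4, 3, 1, 3, 1, 4, 1, 4, 1, 3]) = true := by decide +kernel

theorem rot1_16 : T.rot 1 [3, 4, 3, 1, 4, 3, 4, 3, 1, 3, 1, 4, 1, 4, 1, 3, 1, 3] (sel (ones 135) ip1 16) = true := by decide +kernel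

theorem rot1_16r : band (Rule.ok (2 * 4) EX RL ⟨1 :: [3, 4, 3, 1, 4, 3, 4, 3, 1, 3, 1, 4, 1, 4, 1, 3, 1, 3], [0, 4, 0, 4], 8, true⟩) (lall (memL L) [3, 4, 3, 1, 4, 3, 4, 3, 1, 3, 1, 4, 1, 4, 1, 3, 1, 3]) = true := by decide +kernel

theorem rot1_17 : T.rot 1 [4, 3, 4, 3, 1, 3, 1, 4, 1, 4, 1, 3, 1, 3, 1, 3, 4, 3] (sel (ones 135) ip1 17) = true := by decide +kernel

theorem rot1_17r : band (Rule.ok (2 * 4) EX RL ⟨1 :: [4, 3, 4, 3, 1, 3, 1, 4, 1, 4, 1, 3, 1, 3, 1, 3, 4, 3], [0, 4, 0, 4, 0, 4, 6, 4], 8, true⟩) (lall (memL L) [4, 3, 4, 3, 1, 3, 1, 4, 1, 4, 1, 3, 1, 3, 1, 3, 4, 3]) = true := by decide +kernel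

theorem rot1_18 : T.rot 1 [3, 1, 4, 1, 4, 1, 3, 1, 3, 1, 3, 4, 3, 1, 4, 3, 4, 3] (sel (ones 135) ip1 18) = true := by decide +kernel

theorem rot1_18r : band (Rule.ok (2 * 4) EX RL ⟨1 :: [3, 1, 4, 1, 4, 1, 3, 1, 3, 1, 3, 4, 3, 1, 4, 3, 4, 3], [6, 0, 6, 0, 4, 0], 8, true⟩) (lall (memL L) [3, 1, 4, 1, 4, 1, 3, 1, 3, 1, 3, 4, 3, 1, 4, 3, 4, 3]) = true := by decide +kernel

theorem rot1_19 : T.rot 1 [3, 4, 3, 1, 3, 1, 3, 1, 4, 1, 4, 1, 3, 1, 3, 4, 3, 4] (sel (ones 135) ip1 19) = true := by decide +kernel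

theorem rot1_19r : band (Rule.ok (2 * 4) EX RL ⟨1 :: [3, 4, 3, 1, 3, 1, 3, 1, 4, 1, 4, 1, 3, 1, 3, 4, 3, 4], [0, 4, 0, 4, 0, 4, 6, 4, 0], 8, false⟩) (lall (memL L) [3, 4, 3, 1, 3, 1, 3, 1, 4, 1, 4, 1, 3, 1, 3, 4, 3, 4]) = true := by decide +kernel

theorem rot1_20 : T.rot 1 [3, 1, 3, 2, 4, 1, 2, 1, 4, 1, 2, 4, 1, 4, 2, 1, 2, 3] (sel (ones 135) ip1 20) = true := by decide +kernel

theorem rot1_20r : band (Rule.ok (2 * 4) EX RL ⟨1 :: [3, 1, 3, 2, 4, 1, 2, 1, 4, 1, 2, 4, 1, 4, 2, 1, 2, 3], [4], 12, true⟩) (lall (memL L) [3, 1, 3, 2, 4, 1, 2, 1, 4, 1, 2, 4, 1, 4, 2, 1, 2, 3]) = true := by decide +kernel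

theorem rot1_21 : T.rot 1 [4, 2, 1, 2, 3, 1, 3, 1, 3, 2, 4, 1, 2, 1, 4, 1, 2, 4] (sel (ones 135) ip1 21) = true := by decide +kernel

theorem rot1_21r : band (Rule.ok (2 * 4) EX RL ⟨1 :: [4, 2, 1, 2, 3, 1, 3, 1, 3, 2, 4, 1, 2, 1, 4, 1, 2, 4], [2, 0, 2, 6, 0], 12, true⟩) (lall (memL L) [4, 2, 1, 2, 3, 1, 3, 1, 3, 2, 4, 1, 2, 1, 4, 1, 2, 4]) = true := by decide +kernel

theorem rot1_22 : T.rot 1 [2, 3, 1, 3, 1, 3, 2, 4, 1, 2, 1, 4, 1, 2, 4, 1, 4, 2] (sel (ones 135) ip1 22) = true := by decide +kernel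

theorem rot1_22r : band (Rule.ok (2 * 4) EX RL ⟨1 :: [2, 3, 1, 3, 1, 3, 2, 4, 1, 2, 1, 4, 1, 2, 4, 1, 4, 2], [2, 0], 12, true⟩) (lall (memL L) [2, 3, 1, 3, 1, 3, 2, 4, 1, 2, 1, 4, 1, 2, 4, 1, 4, 2]) = true := by decide +kernel

theorem rot1_23 : T.rot 1 [2, 4, 1, 4, 2, 1, 4, 1, 2, 1, 4, 2, 3, 1, 3, 1, 3, 2] (sel (ones 135) ip1 23) = true := by decide +kernel

theorem rot1_23r : band (Rule.ok (2 * 4) EX RL ⟨1 :: [2, 4, 1, 4, 2, 1, 4, 1, 2, 1, 4, 2, 3, 1, 3, 1, 3, 2], [2], 12, false⟩) (lall (memL L) [2, 4, 1, 4, 2, 1, 4, 1, 2, 1, 4, 2, 3, 1, 3, 1, 3, 2]) = true := by decide +kernel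

theorem rot1_24 : T.rot 1 [4, 2, 1, 4, 1, 2, 1, 4, 2, 3, 1, 3, 1, 3, 2, 1, 2, 4] (sel (ones 135) ip1 24) = true := by decide +kernel

theorem rot1_24r : band (Rule.ok (2 * 4) EX RL ⟨1 :: [4, 2, 1, 4, 1, 2, 1, 4, 2, 3, 1, 3, 1, 3, 2, 1, 2, 4], [2, 0, 2, 6], 12, false⟩) (lall (memL L) [4, 2, 1, 4, 1, 2, 1, 4, 2, 3, 1, 3, 1, 3, 2, 1, 2, 4]) = true := by decide +kernel

theorem rot1_25 : T.rot 1 [3, 2, 1, 2, 4, 1, 4, 2, 1, 4, 1, 2, 1, 4, 2, 3, 1, 3] (sel (ones 135) ip1 25) = true := by decide +kernel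

theorem rot1_25r : band (Rule.ok (2 * 4) EX RL ⟨1 :: [3, 2, 1, 2, 4, 1, 4, 2, 1, 4, 1, 2, 1, 4, 2, 3, 1, 3], [4, 0], 12, false⟩) (lall (memL L) [3, 2, 1, 2, 4, 1, 4, 2, 1, 4, 1, 2, 1, 4, 2, 3, 1, 3]) = true := by decide +kernel

theorem rot1_26 : T.rot 1 [2, 3, 1, 2, 3, 2, 3, 2, 1, 3, 2, 1, 2, 3, 1, 4, 1, 3, 2] (sel (ones 135) ip1 26) = true := by decide +kernel

theorem rot1_26r : band (Rule.ok (2 * 4) EX RL ⟨1 :: [2, 3, 1, 2, 3, 2, 3, 2, 1, 3, 2, 1, 2, 3, 1, 4, 1, 3, 2], [4, 2], 13, true⟩) (lall (memL L) [2, 3, 1, 2, 3, 2, 3, 2, 1, 3, 2, 1, 2, 3, 1, 4, 1, 3, 2]) = true := by decide +kernel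

theorem rot1_27 : T.rot 1 [2, 3, 2, 3, 2, 1, 3, 2, 1, 2, 3, 1, 4, 1, 3, 2, 1, 2, 3] (sel (ones 135) ip1 27) = true := by decide +kernel

theorem rot1_27r : band (Rule.ok (2 * 4) EX RL ⟨1 :: [2, 3, 2, 3, 2, 1, 3, 2, 1, 2, 3, 1, 4, 1, 3, 2, 1, 2, 3], [4, 2, 0, 2, 4], 13, true⟩) (lall (memL L) [2, 3, 2, 3, 2, 1, 3, 2, 1, 2, 3, 1, 4, 1, 3, 2, 1, 2, 3]) = true := by decide +kernel

theorem rot1_28 : T.rot 1 [3, 2, 1, 2, 3, 1, 4, 1, 3, 2, 1, 2, 3, 1, 2, 3, 2, 3, 2] (sel (ones 135) ip1 28) = true := by decide +kernel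

theorem rot1_28r : band (Rule.ok (2 * 4) EX RL ⟨1 :: [3, 2, 1, 2, 3, 1, 4, 1, 3, 2, 1, 2, 3, 1, 2, 3, 2, 3, 2], [4, 2, 0, 2, 4, 0], 13, false⟩) (lall (memL L) [3, 2, 1, 2, 3, 1, 4, 1, 3, 2, 1, 2, 3, 1, 2, 3, 2, 3, 2]) = true := by decide +kernel

theorem rot1_29 : T.rot 1 [2, 3, 1, 4, 1, 3, 2, 1, 2, 3, 1, 2, 3, 2, 3, 2, 1, 3, 2] (sel (ones 135) ip1 29) = true := by decide +kernel

theorem rot1_29r : band (Rule.ok (2 * 4) EX RL ⟨1 :: [2, 3, 1, 4, 1, 3, 2, 1, 2, 3, 1, 2, 3, 2, 3, 2, 1, 3, 2], [4, 2, 0], 13, false⟩) (lall (memL L) [2, 3, 1, 4, 1, 3, 2, 1, 2, 3, 1, 2, 3, 2, 3, 2, 1, 3, 2]) = true := by decide +kernel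

theorem rot1_30 : T.rot 1 [2, 4, 1, 2, 4, 2, 4, 1, 4, 1, 2, 4, 2, 4, 1, 4, 2, 1, 4, 2, 4] (sel (ones 135) ip1 30) = true := by decide +kernel

theorem rot1_30r : band (Rule.ok (2 * 4) EX RL ⟨1 :: [2, 4, 1, 2, 4, 2, 4, 1, 4, 1, 2, 4, 2, 4, 1, 4, 2, 1, 4, 2, 4], [], 4, true⟩) (lall (memL L) [2, 4, 1, 2, 4, 2, 4, 1, 4, 1, 2, 4, 2, 4, 1, 4, 2, 1, 4, 2, 4]) = true := by decide +kernel

theorem rot1_31 : T.rot 1 [4, 2, 4, 1, 2, 4, 1, 2, 4, 2, 4, 1, 4, 1, 2, 4, 2, 4, 1, 4, 2] (sel (ones 135) ip1 31) = true := by decide +kernel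

theorem rot1_31r : band (Rule.ok (2 * 4) EX RL ⟨1 :: [4, 2, 4, 1, 2, 4, 1, 2, 4, 2, 4, 1, 4, 1, 2, 4, 2, 4, 1, 4, 2], [6, 2, 6, 0], 4, true⟩) (lall (memL L) [4, 2, 4, 1, 2, 4, 1, 2, 4, 2, 4, 1, 4, 1, 2, 4, 2, 4, 1, 4, 2]) = true := by decide +kernel

theorem rot1_32 : T.rot 1 [2, 1, 4, 1, 4, 1, 2, 4, 1, 2, 4, 1, 2, 4, 1, 2, 4, 1, 2, 4, 2, 1, 2, 4] (sel (ones 135) ip1 32) = true := by decide +kernel

theorem rot1_32r : band (Rule.ok (2 * 4) EX RL ⟨1 :: [2, 1, 4, 1, 4, 1, 2, 4, 1, 2, 4, 1, 2, 4, 1, 2, 4, 1, 2, 4, 2, 1, 2, 4], [], 5, true⟩) (lall (memL L) [2, 1, 4, 1, 4, 1, 2, 4, 1, 2, 4, 1, 2, 4, 1, 2, 4, 1, 2, 4, 2, 1, 2, 4]) = true := by decide +kernel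

theorem rot1_33 : T.rot 1 [4, 1, 2, 4, 1, 2, 4, 1, 2, 4, 1, 2, 4, 1, 2, 4, 2, 1, 2, 4, 1, 2, 1, 4] (sel (ones 135) ip1 33) = true := by decide +kernel

theorem rot1_33r : band (Rule.ok (2 * 4) EX RL ⟨1 :: [4, 1, 2, 4, 1, 2, 4, 1, 2, 4, 1, 2, 4, 1, 2, 4, 2, 1, 2, 4, 1, 2, 1, 4], [0, 2, 0, 6], 5, true⟩) (lall (memL L) [4, 1, 2, 4, 1, 2, 4, 1, 2, 4, 1, 2, 4, 1, 2, 4, 2, 1, 2, 4, 1, 2, 1, 4]) = true := by decide +kernel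

theorem rot1_34 : T.rot 1 [2, 4, 1, 2, 4, 1, 2, 4, 1, 2, 4, 1, 2, 4, 2, 1, 2, 4, 1, 2, 1, 4, 1, 4] (sel (ones 135) ip1 34) = true := by decide +kernel

theorem rot1_34r : band (Rule.ok (2 * 4) EX RL ⟨1 :: [2, 4, 1, 2, 4, 1, 2, 4, 1, 2, 4, 1, 2, 4, 2, 1, 2, 4, 1, 2, 1, 4, 1, 4], [0, 2, 0, 6, 0, 6], 5, true⟩) (lall (memL L) [2, 4, 1, 2, 4, 1, 2, 4, 1, 2, 4, 1, 2, 4, 2, 1, 2, 4, 1, 2, 1, 4, 1, 4]) = true := by decide +kernel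

theorem rot1_35 : T.rot 1 [2, 4, 1, 2, 4, 1, 2, 4, 1, 2, 4, 2, 1, 2, 4, 1, 2, 1, 4, 1, 4, 1, 2, 4] (sel (ones 135) ip1 35) = true := by decide +kernel

theorem rot1_35r : band (Rule.ok (2 * 4) EX RL ⟨1 :: [2, 4, 1, 2, 4, 1, 2, 4, 1, 2, 4, 2, 1, 2, 4, 1, 2, 1, 4, 1, 4, 1, 2, 4], [0, 2, 0, 6, 0, 6, 0, 2, 6], 5, true⟩) (lall (memL L) [2, 4, 1, 2, 4, 1, 2, 4, 1, 2, 4, 2, 1, 2, 4, 1, 2, 1, 4, 1, 4, 1, 2, 4]) = true := by decide +kernel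

theorem rot1_36 : T.rot 1 [4, 1, 4, 1, 2, 1, 4, 2, 1, 2, 4, 2, 1, 4, 2, 1, 4, 2, 1, 4, 2, 1, 4, 2] (sel (ones 135) ip1 36) = true := by decide +kernel

theorem rot1_36r : band (Rule.ok (2 * 4) EX RL ⟨1 :: [4, 1, 4, 1, 2, 1, 4, 2, 1, 2, 4, 2, 1, 4, 2, 1, 4, 2, 1, 4, 2, 1, 4, 2], [0, 2, 0, 6, 0, 6, 0], 5, false⟩) (lall (memL L) [4, 1, 4, 1, 2, 1, 4, 2, 1, 2, 4, 2, 1, 4, 2, 1, 4, 2, 1, 4, 2, 1, 4, 2]) = true := by decide +kernel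

theorem cov1 : T.cover 1 [(sel (ones 135) ip1 1), (sel (ones 135) ip1 2), (sel (ones 135) ip1 3), (sel (ones 135) ip1 4), (sel (ones 135) ip1 5), (sel (ones 135) ip1 6), (sel (ones 135) ip1 7), (sel (ones 135) ip1 8), (sel (ones 135) ip1 9), (sel (ones 135) ip1 10), (sel (ones 135) ip1 11), (sel (ones 135) ip1 12), (sel (ones 135) ip1 13), (sel (ones 135) ip1 14), (sel (ones 135) ip1 15), (sel (ones 135) ip1 16), (sel (ones 135) ip1 17), (sel (ones 135) ip1 18), (sel (ones 135) ip1 19), (sel (ones 135) ip1 20), (sel (ones 135) ip1 21), (sel (ones 135) ip1 22), (sel (ones 135) ip1 23), (sel (ones 135) ip1 24), (sel (ones 135) ip1 25), (sel (ones 135) ip1 26), (sel (ones 135) ip1 27), (sel (ones 135) ip1 28), (sel (ones 135) ip1 29), (sel (ones 135) ip1 30), (sel (ones 135) ip1 31), (sel (ones 135) ip1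 32), (sel (ones 135) ip1 33), (sel (ones 135) ip1 34), (sel (ones 135) ip1 35), (sel (ones 135) ip1 36), 1] = true := by decide +kernel

theorem tl1 : T.treeLt 8 1 = true := by decide +kernel

theorem rot2_1 : T.rot 2 [2] (sel (ones 135) ip2 1) = true := by decide +kernel

theorem rot2_1r : band (Rule.ok (2 * 4) EX RL ⟨2 :: [2], [], 14, false⟩) (lall (memL L) [2]) = true := by decide +kernel

theorem rot2_2 : T.rot 2 [4, 2, 3, 4, 3, 4] (sel (ones 135) ip2 2) = true := by decide +kernel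

theorem rot2_2r : band (Rule.ok (2 * 4) EX RL ⟨2 :: [4, 2, 3, 4, 3, 4], [4, 6], 11, true⟩) (lall (memL L) [4, 2, 3, 4, 3, 4]) = true := by decide +kernel

theorem rot2_3 : T.rot 2 [3, 4, 3, 4, 2, 4] (sel (ones 135) ip2 3) = true := by decide +kernel

theorem rot2_3r : band (Rule.ok (2 * 4) EX RL ⟨2 :: [3, 4, 3, 4, 2, 4], [6, 4, 2], 11, true⟩) (lall (memL L) [3, 4, 3, 4, 2, 4]) = true := by decide +kernel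

theorem rot2_4 : T.rot 2 [4, 2, 4, 3, 4, 3] (sel (ones 135) ip2 4) = true := by decide +kernel

theorem rot2_4r : band (Rule.ok (2 * 4) EX RL ⟨2 :: [4, 2, 4, 3, 4, 3], [6, 4], 11, false⟩) (lall (memL L) [4, 2, 4, 3, 4, 3]) = true := by decide +kernel

theorem rot2_5 : T.rot 2 [4, 3, 4, 3, 2, 4] (sel (ones 135) ip2 5) = true := by decide +kernel

theorem rot2_5r : band (Rule.ok (2 * 4) EX RL ⟨2 :: [4, 3, 4, 3, 2, 4], [4, 6, 2], 11, false⟩) (lall (memL L) [4, 3, 4, 3, 2, 4]) = true := by decide +kernel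

theorem rot2_6 : T.rot 2 [1, 2, 1, 2, 1, 2, 1] (sel (ones 135) ip2 6) = true := by decide +kernel

theorem rot2_6r : band (Rule.ok (2 * 4) EX RL ⟨2 :: [1, 2, 1, 2, 1, 2, 1], [], 0, true⟩) (lall (memL L) [1, 2, 1, 2, 1, 2, 1]) = true := by decide +kernel

theorem rot2_7 : T.rot 2 [4, 2, 4, 2, 4, 2, 4] (sel (ones 135) ip2 7) = true := by decide +kernel

theorem rot2_7r : band (Rule.ok (2 * 4) EX RL ⟨2 :: [4, 2, 4, 2, 4, 2, 4], [], 2, false⟩) (lall (memL L) [4, 2, 4, 2, 4, 2, 4]) = true := by decide +kernel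

theorem rot2_8 : T.rot 2 [3, 2, 3, 2, 3, 2, 3, 2, 3, 2, 3] (sel (ones 135) ip2 8) = true := by decide +kernel

theorem rot2_8r : band (Rule.ok (2 * 4) EX RL ⟨2 :: [3, 2, 3, 2, 3, 2, 3, 2, 3, 2, 3], [], 10, false⟩) (lall (memL L) [3, 2, 3, 2, 3, 2, 3, 2, 3, 2, 3]) = true := by decide +kernel

theorem rot2_9 : T.rot 2 [1, 2, 4, 1, 2, 1, 2, 4, 2, 1, 2, 1, 4, 1] (sel (ones 135) ip2 9) = true := by decide +kernel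

theorem rot2_9r : band (Rule.ok (2 * 4) EX RL ⟨2 :: [1, 2, 4, 1, 2, 1, 2, 4, 2, 1, 2, 1, 4, 1], [0], 3, true⟩) (lall (memL L) [1, 2, 4, 1, 2, 1, 2, 4, 2, 1, 2, 1, 4, 1]) = true := by decide +kernel

theorem rot2_10 : T.rot 2 [1, 2, 4, 2, 1, 2, 1, 4, 1, 2, 1, 2, 4, 1] (sel (ones 135) ip2 10) = true := by decide +kernel

theorem rot2_10r : band (Rule.ok (2 * 4) EX RL ⟨2 :: [1, 2, 4, 2, 1, 2, 1, 4, 1, 2, 1, 2, 4, 1], [0, 2, 0, 2, 6, 0], 3, true⟩) (lall (memL L) [1, 2, 4, 2, 1, 2, 1, 4, 1, 2, 1, 2, 4, 1]) = true := by decide +kernel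

theorem rot2_11 : T.rot 2 [1, 4, 1, 2, 1, 2, 4, 1, 2, 1, 2, 4, 2, 1] (sel (ones 135) ip2 11) = true := by decide +kernel

theorem rot2_11r : band (Rule.ok (2 * 4) EX RL ⟨2 :: [1, 4, 1, 2, 1, 2, 4, 1, 2, 1, 2, 4, 2, 1], [6, 0, 2], 3, true⟩) (lall (memL L) [1, 4, 1, 2, 1, 2, 4, 1, 2, 1, 2, 4, 2, 1]) = true := by decide +kernel

theorem rot2_12 : T.rot 2 [1, 4, 2, 1, 2, 1, 4, 1, 2, 1, 2, 4, 2, 1] (sel (ones 135) ip2 12) = true := by decide +kernel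

theorem rot2_12r : band (Rule.ok (2 * 4) EX RL ⟨2 :: [1, 4, 2, 1, 2, 1, 4, 1, 2, 1, 2, 4, 2, 1], [0, 2, 0, 2, 6, 0, 2], 3, false⟩) (lall (memL L) [1, 4, 2, 1, 2, 1, 4, 1, 2, 1, 2, 4, 2, 1]) = true := by decide +kernel

theorem rot2_13 : T.rot 2 [4, 1, 2, 1, 4, 1, 2, 4, 1, 4, 2, 1, 2, 3, 1, 3, 1, 3] (sel (ones 135) ip2 13) = true := by decide +kernel

theorem rot2_13r : band (Rule.ok (2 * 4) EX RL ⟨2 :: [4, 1, 2, 1, 4, 1, 2, 4, 1, 4, 2, 1, 2, 3, 1, 3, 1, 3], [4, 0, 4, 0, 4], 12, true⟩) (lall (memL L) [4, 1, 2, 1, 4, 1, 2, 4, 1, 4, 2, 1, 2, 3, 1, 3, 1, 3]) = true := by decide +kernel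

theorem rot2_14 : T.rot 2 [3, 1, 3, 1, 3, 2, 4, 1, 2, 1, 4, 1, 2, 4, 1, 4, 2, 1] (sel (ones 135) ip2 14) = true := by decide +kernel

theorem rot2_14r : band (Rule.ok (2 * 4) EX RL ⟨2 :: [3, 1, 3, 1, 3, 2, 4, 1, 2, 1, 4, 1, 2, 4, 1, 4, 2, 1], [2], 12, true⟩) (lall (memL L) [3, 1, 3, 1, 3, 2, 4, 1, 2, 1, 4, 1, 2, 4, 1, 4, 2, 1]) = true := by decide +kernel

theorem rot2_15 : T.rot 2 [4, 1, 4, 2, 1, 4, 1, 2, 1, 4, 2, 3, 1, 3, 1, 3, 2, 1] (sel (ones 135) ip2 15) = true := by decide +kernel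

theorem rot2_15r : band (Rule.ok (2 * 4) EX RL ⟨2 :: [4, 1, 4, 2, 1, 4, 1, 2, 1, 4, 2, 3, 1, 3, 1, 3, 2, 1], [2, 0], 12, false⟩) (lall (memL L) [4, 1, 4, 2, 1, 4, 1, 2, 1, 4, 2, 3, 1, 3, 1, 3, 2, 1]) = true := by decide +kernel

theorem rot2_16 : T.rot 2 [1, 4, 2, 3, 1, 3, 1, 3, 2, 1, 2, 4, 1, 4, 2, 1, 4, 1] (sel (ones 135) ip2 16) = true := by decide +kernel

theorem rot2_16r : band (Rule.ok (2 * 4) EX RL ⟨2 :: [1, 4, 2, 3, 1, 3, 1, 3, 2, 1, 2, 4, 1, 4, 2, 1, 4, 1], [4, 0, 4, 0, 4, 2, 6, 0, 2], 12, false⟩) (lall (memL L) [1, 4, 2, 3, 1, 3, 1, 3, 2, 1, 2, 4, 1, 4, 2, 1, 4, 1]) = true := by decide +kernel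

theorem rot2_17 : T.rot 2 [1, 2, 3, 1, 2, 3, 2, 3, 2, 1, 3, 2, 1, 2, 3, 1, 4, 1, 3] (sel (ones 135) ip2 17) = true := by decide +kernel

theorem rot2_17r : band (Rule.ok (2 * 4) EX RL ⟨2 :: [1, 2, 3, 1, 2, 3, 2, 3, 2, 1, 3, 2, 1, 2, 3, 1, 4, 1, 3], [4], 13, true⟩) (lall (memL L) [1, 2, 3, 1, 2, 3, 2, 3, 2, 1, 3, 2, 1, 2, 3, 1, 4, 1, 3]) = true := by decide +kernel

theorem rot2_18 : T.rot 2 [3, 2, 3, 2, 1, 3, 2, 1, 2, 3, 1, 4, 1, 3, 2, 1, 2, 3, 1] (sel (ones 135) ip2 18) = true := by decide +kernel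

theorem rot2_18r : band (Rule.ok (2 * 4) EX RL ⟨2 :: [3, 2, 3, 2, 1, 3, 2, 1, 2, 3, 1, 4, 1, 3, 2, 1, 2, 3, 1], [4, 2, 0, 2, 4, 0], 13, true⟩) (lall (memL L) [3, 2, 3, 2, 1, 3, 2, 1, 2, 3, 1, 4, 1, 3, 2, 1, 2, 3, 1]) = true := by decide +kernel

theorem rot2_19 : T.rot 2 [3, 2, 1, 3, 2, 1, 2, 3, 1, 4, 1, 3, 2, 1, 2, 3, 1, 2, 3] (sel (ones 135) ip2 19) = true := by decide +kernel

theorem rot2_19r : band (Rule.ok (2 * 4) EX RL ⟨2 :: [3, 2, 1, 3, 2, 1, 2, 3, 1, 4, 1, 3, 2, 1, 2, 3, 1, 2, 3], [4, 2, 0, 2, 4, 0, 2, 4], 13, true⟩) (lall (memL L) [3, 2, 1, 3, 2, 1, 2, 3, 1, 4, 1, 3, 2, 1, 2, 3, 1, 2, 3]) = true := by decide +kernel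

theorem rot2_20 : T.rot 2 [1, 3, 2, 1, 2, 3, 1, 4, 1, 3, 2, 1, 2, 3, 1, 2, 3, 2, 3] (sel (ones 135) ip2 20) = true := by decide +kernel

theorem rot2_20r : band (Rule.ok (2 * 4) EX RL ⟨2 :: [1, 3, 2, 1, 2, 3, 1, 4, 1, 3, 2, 1, 2, 3, 1, 2, 3, 2, 3], [4, 2, 0, 2, 4, 0, 2], 13, false⟩) (lall (memL L) [1, 3, 2, 1, 2, 3, 1, 4, 1, 3, 2, 1, 2, 3, 1, 2, 3, 2, 3]) = true := by decide +kernel

theorem rot2_21 : T.rot 2 [3, 1, 4, 1, 3, 2, 1, 2, 3, 1, 2, 3, 2, 3, 2, 1, 3, 2, 1] (sel (ones 135) ip2 21) = true := by decide +kernel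

theorem rot2_21r : band (Rule.ok (2 * 4) EX RL ⟨2 :: [3, 1, 4, 1, 3, 2, 1, 2, 3, 1, 2, 3, 2, 3, 2, 1, 3, 2, 1], [4, 2], 13, false⟩) (lall (memL L) [3, 1, 4, 1, 3, 2, 1, 2, 3, 1, 2, 3, 2, 3, 2, 1, 3, 2, 1]) = true := by decide +kernel

theorem rot2_22 : T.rot 2 [4, 1, 2, 4, 2, 4, 1, 4, 1, 2, 4, 2, 4, 1, 4, 2, 1, 4, 2, 4, 1] (sel (ones 135) ip2 22) = true := by decide +kernel

theorem rot2_22r : band (Rule.ok (2 * 4) EX RL ⟨2 :: [4, 1, 2, 4, 2, 4, 1, 4, 1, 2, 4, 2, 4, 1, 4, 2, 1, 4, 2, 4, 1], [0], 4, true⟩) (lall (memL L) [4, 1, 2, 4, 2, 4, 1, 4, 1, 2, 4, 2, 4, 1, 4, 2, 1, 4, 2, 4, 1]) = true := by decide +kernel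

theorem rot2_23 : T.rot 2 [4, 2, 4, 1, 4, 1, 2, 4, 2, 4, 1, 4, 2, 1, 4, 2, 4, 1, 2, 4, 1] (sel (ones 135) ip2 23) = true := by decide +kernel

theorem rot2_23r : band (Rule.ok (2 * 4) EX RL ⟨2 :: [4, 2, 4, 1, 4, 1, 2, 4, 2, 4, 1, 4, 2, 1, 4, 2, 4, 1, 2, 4, 1], [0, 2, 6, 0], 4, true⟩) (lall (memL L) [4, 2, 4, 1, 4, 1, 2, 4, 2, 4, 1, 4, 2, 1, 4, 2, 4, 1, 2, 4, 1]) = true := by decide +kernel

theorem rot2_24 : T.rot 2 [4, 1, 4, 1, 2, 4, 2, 4, 1, 4, 2, 1, 4, 2, 4, 1, 2, 4, 1, 2, 4] (sel (ones 135) ip2 24) = true := by decide +kernel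

theorem rot2_24r : band (Rule.ok (2 * 4) EX RL ⟨2 :: [4, 1, 4, 1, 2, 4, 2, 4, 1, 4, 2, 1, 4, 2, 4, 1, 2, 4, 1, 2, 4], [0, 2, 6, 0, 2, 6], 4, true⟩) (lall (memL L) [4, 1, 4, 1, 2, 4, 2, 4, 1, 4, 2, 1, 4, 2, 4, 1, 2, 4, 1, 2, 4]) = true := by decide +kernel

theorem rot2_25 : T.rot 2 [4, 1, 4, 2, 1, 4, 2, 4, 1, 2, 4, 1, 2, 4, 2, 4, 1, 4, 1, 2, 4] (sel (ones 135) ip2 25) = true := by decide +kernel

theorem rot2_25r : band (Rule.ok (2 * 4) EX RL ⟨2 :: [4, 1, 4, 2, 1, 4, 2, 4, 1, 2, 4, 1, 2, 4, 2, 4, 1, 4, 1, 2, 4], [6, 2, 6, 0, 2, 6, 0, 6, 2], 4, true⟩) (lall (memL L) [4, 1, 4, 2, 1, 4, 2, 4, 1, 2, 4, 1, 2, 4, 2, 4, 1, 4, 1, 2, 4]) = true := by decide +kernel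

theorem rot2_26 : T.rot 2 [4, 1, 2, 4, 1, 2, 4, 2, 4, 1, 4, 1, 2, 4, 2, 4, 1, 4, 2, 1, 4] (sel (ones 135) ip2 26) = true := by decide +kernel

theorem rot2_26r : band (Rule.ok (2 * 4) EX RL ⟨2 :: [4, 1, 2, 4, 1, 2, 4, 2, 4, 1, 4, 1, 2, 4, 2, 4, 1, 4, 2, 1, 4], [6, 2], 4, true⟩) (lall (memL L) [4, 1, 2, 4, 1, 2, 4, 2, 4, 1, 4, 1, 2, 4, 2, 4, 1, 4, 2, 1, 4]) = true := by decide +kernel

theorem rot2_27 : T.rot 2 [4, 1, 2, 4, 1, 4, 2, 4, 2, 1, 4, 1, 4, 2, 4, 2, 1, 4, 2, 1, 4] (sel (ones 135) ip2 27) = true := by decide +kernel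

theorem rot2_27r : band (Rule.ok (2 * 4) EX RL ⟨2 :: [4, 1, 2, 4, 1, 4, 2, 4, 2, 1, 4, 1, 4, 2, 4, 2, 1, 4, 2, 1, 4], [6], 4, false⟩) (lall (memL L) [4, 1, 2, 4, 1, 4, 2, 4, 2, 1, 4, 1, 4, 2, 4, 2, 1, 4, 2, 1, 4]) = true := by decide +kernel

theorem rot2_28 : T.rot 2 [4, 1, 4, 2, 4, 2, 1, 4, 1, 4, 2, 4, 2, 1, 4, 2, 1, 4, 2, 4, 1] (sel (ones 135) ip2 28) = true := by decide +kernel

theorem rot2_28r : band (Rule.ok (2 * 4) EX RL ⟨2 :: [4, 1, 4, 2, 4, 2, 1, 4, 1, 4, 2, 4, 2, 1, 4, 2, 1, 4, 2, 4, 1], [6, 2, 6, 0], 4, false⟩) (lall (memL L) [4, 1, 4, 2, 4, 2, 1, 4, 1, 4, 2, 4, 2, 1, 4, 2, 1, 4, 2, 4, 1]) = true := by decide +kernel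

theorem rot2_29 : T.rot 2 [4, 2, 1, 4, 2, 1, 4, 2, 4, 1, 2, 4, 1, 4, 2, 4, 2, 1, 4, 1, 4] (sel (ones 135) ip2 29) = true := by decide +kernel

theorem rot2_29r : band (Rule.ok (2 * 4) EX RL ⟨2 :: [4, 2, 1, 4, 2, 1, 4, 2, 4, 1, 2, 4, 1, 4, 2, 4, 2, 1, 4, 1, 4], [0, 2, 6, 0, 2, 6, 2], 4, false⟩) (lall (memL L) [4, 2, 1, 4, 2, 1, 4, 2, 4, 1, 2, 4, 1, 4, 2, 4, 2, 1, 4, 1, 4]) = true := by decide +kernel

theorem rot2_30 : T.rot 2 [4, 1, 2, 4, 1, 2, 4, 1, 2, 4, 2, 1, 2, 4, 1, 2, 1, 4, 1, 4, 1, 2, 4, 1] (sel (ones 135) ip2 30) = true := by decide +kernel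

theorem rot2_30r : band (Rule.ok (2 * 4) EX RL ⟨2 :: [4, 1, 2, 4, 1, 2, 4, 1, 2, 4, 2, 1, 2, 4, 1, 2, 1, 4, 1, 4, 1, 2, 4, 1], [0, 2, 0, 6, 0, 6, 0, 2, 6, 0], 5, true⟩) (lall (memL L) [4, 1, 2, 4, 1, 2, 4, 1, 2, 4, 2, 1, 2, 4, 1, 2, 1, 4, 1, 4, 1, 2, 4, 1]) = true := by decide +kernel

theorem rot2_31 : T.rot 2 [4, 1, 2, 4, 2, 1, 2, 4, 1, 2, 1, 4, 1, 4, 1, 2, 4, 1, 2, 4, 1, 2, 4, 1] (sel (ones 135) ip2 31) = true := by decide +kernel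

theorem rot2_31r : band (Rule.ok (2 * 4) EX RL ⟨2 :: [4, 1, 2, 4, 2, 1, 2, 4, 1, 2, 1, 4, 1, 4, 1, 2, 4, 1, 2, 4, 1, 2, 4, 1], [6, 2, 0, 2, 6, 2, 0, 6, 2], 5, true⟩) (lall (memL L) [4, 1, 2, 4, 2, 1, 2, 4, 1, 2, 1, 4, 1, 4, 1, 2, 4, 1, 2, 4, 1, 2, 4, 1]) = true := by decide +kernel

theorem rot2_32 : T.rot 2 [4, 1, 2, 1, 4, 1, 4, 1, 2, 4, 1, 2, 4, 1, 2, 4, 1, 2, 4, 1, 2, 4, 2, 1] (sel (ones 135) ip2 32) = true := by decide +kernel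

theorem rot2_32r : band (Rule.ok (2 * 4) EX RL ⟨2 :: [4, 1, 2, 1, 4, 1, 4, 1, 2, 4, 1, 2, 4, 1, 2, 4, 1, 2, 4, 1, 2, 4, 2, 1], [6, 2], 5, true⟩) (lall (memL L) [4, 1, 2, 1, 4, 1, 4, 1, 2, 4, 1, 2, 4, 1, 2, 4, 1, 2, 4, 1, 2, 4, 2, 1]) = true := by decide +kernel

theorem rot2_33 : T.rot 2 [1, 2, 4, 2, 1, 4, 2, 1, 4, 2, 1, 4, 2, 1, 4, 2, 1, 4, 1, 4, 1, 2, 1, 4] (sel (ones 135) ip2 33) = true := by decide +kernel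

theorem rot2_33r : band (Rule.ok (2 * 4) EX RL ⟨2 :: [1, 2, 4, 2, 1, 4, 2, 1, 4, 2, 1, 4, 2, 1, 4, 2, 1, 4, 1, 4, 1, 2, 1, 4], [6], 5, false⟩) (lall (memL L) [1, 2, 4, 2, 1, 4, 2, 1, 4, 2, 1, 4, 2, 1, 4, 2, 1, 4, 1, 4, 1, 2, 1, 4]) = true := by decide +kernel

theorem rot2_34 : T.rot 2 [1, 4, 2, 1, 4, 2, 1, 4, 1, 4, 1, 2, 1, 4, 2, 1, 2, 4, 2, 1, 4, 2, 1, 4] (sel (ones 135) ip2 34) = true := by decide +kernel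

theorem rot2_34r : band (Rule.ok (2 * 4) EX RL ⟨2 :: [1, 4, 2, 1, 4, 2, 1, 4, 1, 4, 1, 2, 1, 4, 2, 1, 2, 4, 2, 1, 4, 2, 1, 4], [6, 2, 0, 2, 6, 2, 0, 6, 2, 0, 6], 5, false⟩) (lall (memL L) [1, 4, 2, 1, 4, 2, 1, 4, 1, 4, 1, 2, 1, 4, 2, 1, 2, 4, 2, 1, 4, 2, 1, 4]) = true := by decide +kernel

theorem rot2_35 : T.rot 2 [1, 4, 2, 1, 4, 1, 4, 1, 2, 1, 4, 2, 1, 2, 4, 2, 1, 4, 2, 1, 4, 2, 1, 4] (sel (ones 135) ip2 35) = true := by decide +kernel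

theorem rot2_35r : band (Rule.ok (2 * 4) EX RL ⟨2 :: [1, 4, 2, 1, 4, 1, 4, 1, 2, 1, 4, 2, 1, 2, 4, 2, 1, 4, 2, 1, 4, 2, 1, 4], [0, 2, 0, 6, 0, 6, 0, 2, 6, 0, 2], 5, false⟩) (lall (memL L) [1, 4, 2, 1, 4, 1, 4, 1, 2, 1, 4, 2, 1, 2, 4, 2, 1, 4, 2, 1, 4, 2, 1, 4]) = true := by decide +kernel

theorem cov2 : T.cover 2 [(sel (ones 135) ip2 1), (sel (ones 135) ip2 2), (sel (ones 135) ip2 3), (sel (ones 135) ip2 4), (sel (ones 135) ip2 5), (sel (ones 135) ip2 6), (sel (ones 135) ip2 7), (sel (ones 135) ip2 8), (sel (ones 135) ip2 9), (sel (ones 135) ip2 10), (sel (ones 135) ip2 11), (sel (ones 135) ip2 12), (sel (ones 135) ip2 13), (sel (ones 135) ip2 14), (sel (ones 135) ip2 15), (sel (ones 135) ip2 16), (sel (ones 135) ip2 17), (sel (ones 135) ip2 18), (sel (ones 135) ip2 19), (sel (ones 135) ip2 20), (sel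 (ones 135) ip2 21), (sel (ones 135) ip2 22), (sel (ones 135) ip2 23), (sel (ones 135) ip2 24), (sel (ones 135) ip2 25), (sel (ones 135) ip2 26), (sel (ones 135) ip2 27), (sel (ones 135) ip2 28), (sel (ones 135) ip2 29), (sel (ones 135) ip2 30), (sel (ones 135) ip2 31), (sel (ones 135) ip2 32), (sel (ones 135) ip2 33), (sel (ones 135) ip2 34), (sel (ones 135) ip2 35), 1] = true := by decide +kernel

theorem tl2 : T.treeLt 8 2 = true := by decide +kernel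

theorem rot3_1 : T.rot 3 [3] (sel (ones 135) ip3 1) = true := by decide +kernel

theorem rot3_1r : band (Rule.ok (2 * 4) EX RL ⟨3 :: [3], [], 14, false⟩) (lall (memL L) [3]) = true := by decide +kernel

theorem rot3_2 : T.rot 3 [4, 2, 4, 2, 3, 4] (sel (ones 135) ip3 2) = true := by decide +kernel

theorem rot3_2r : band (Rule.ok (2 * 4) EX RL ⟨3 :: [4, 2, 4, 2, 3, 4], [], 11, true⟩) (lall (memL L) [4, 2, 4, 2, 3, 4]) = true := by decide +kernel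

theorem rot3_3 : T.rot 3 [4, 3, 4, 2, 4, 2] (sel (ones 135) ip3 3) = true := by decide +kernel

theorem rot3_3r : band (Rule.ok (2 * 4) EX RL ⟨3 :: [4, 3, 4, 2, 4, 2], [6, 4], 11, true⟩) (lall (memL L) [4, 3, 4, 2, 4, 2]) = true := by decide +kernel

theorem rot3_4 : T.rot 3 [2, 4, 2, 4, 3, 4] (sel (ones 135) ip3 4) = true := by decide +kernel

theorem rot3_4r : band (Rule.ok (2 * 4) EX RL ⟨3 :: [2, 4, 2, 4, 3, 4], [6], 11, false⟩) (lall (memL L) [2, 4, 2, 4, 3, 4]) = true := by decide +kernel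

theorem rot3_5 : T.rot 3 [4, 3, 2, 4, 2, 4] (sel (ones 135) ip3 5) = true := by decide +kernel

theorem rot3_5r : band (Rule.ok (2 * 4) EX RL ⟨3 :: [4, 3, 2, 4, 2, 4], [4], 11, false⟩) (lall (memL L) [4, 3, 2, 4, 2, 4]) = true := by decide +kernel

theorem rot3_6 : T.rot 3 [1, 3, 1, 3, 1, 3, 1, 3, 1, 3, 1] (sel (ones 135) ip3 6) = true := by decide +kernel

theorem rot3_6r : band (Rule.ok (2 * 4) EX RL ⟨3 :: [1, 3, 1, 3, 1, 3, 1, 3, 1, 3, 1], [], 6, true⟩) (lall (memL L) [1, 3, 1, 3, 1, 3, 1, 3, 1, 3, 1]) = true := by decide +kernel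

theorem rot3_7 : T.rot 3 [1, 3, 4, 1, 3, 1, 4, 1, 3, 1, 3, 4, 1, 3, 1, 4, 1] (sel (ones 135) ip3 7) = true := by decide +kernel

theorem rot3_7r : band (Rule.ok (2 * 4) EX RL ⟨3 :: [1, 3, 4, 1, 3, 1, 4, 1, 3, 1, 3, 4, 1, 3, 1, 4, 1], [0], 9, true⟩) (lall (memL L) [1, 3, 4, 1, 3, 1, 4, 1, 3, 1, 3, 4, 1, 3, 1, 4, 1]) = true := by decide +kernel

theorem rot3_8 : T.rot 3 [1, 4, 1, 3, 1, 3, 4, 1, 3, 1, 4, 1, 3, 1, 3, 4, 1] (sel (ones 135) ip3 8) = true := by decide +kernel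

theorem rot3_8r : band (Rule.ok (2 * 4) EX RL ⟨3 :: [1, 4, 1, 3, 1, 3, 4, 1, 3, 1, 4, 1, 3, 1, 3, 4, 1], [6, 0, 4], 9, true⟩) (lall (memL L) [1, 4, 1, 3, 1, 3, 4, 1, 3, 1, 4, 1, 3, 1, 3, 4, 1]) = true := by decide +kernel

theorem rot3_9 : T.rot 3 [1, 4, 3, 1, 3, 1, 4, 1, 3, 1, 4, 3, 1, 3, 1, 4, 1] (sel (ones 135) ip3 9) = true := by decide +kernel

theorem rot3_9r : band (Rule.ok (2 * 4) EX RL ⟨3 :: [1, 4, 3, 1, 3, 1, 4, 1, 3, 1, 4, 3, 1, 3, 1, 4, 1], [6, 0], 9, false⟩) (lall (memL L) [1, 4, 3, 1, 3, 1, 4, 1, 3, 1, 4, 3, 1, 3, 1, 4, 1]) = true := by decide +kernel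

theorem rot3_10 : T.rot 3 [1, 4, 1, 3, 1, 4, 3, 1, 3, 1, 4, 1, 3, 1, 4, 3, 1] (sel (ones 135) ip3 10) = true := by decide +kernel

theorem rot3_10r : band (Rule.ok (2 * 4) EX RL ⟨3 :: [1, 4, 1, 3, 1, 4, 3, 1, 3, 1, 4, 1, 3, 1, 4, 3, 1], [0, 4], 9, false⟩) (lall (memL L) [1, 4, 1, 3, 1, 4, 3, 1, 3, 1, 4, 1, 3, 1, 4, 3, 1]) = true := by decide +kernel

theorem rot3_11 : T.rot 3 [1, 3, 4, 3, 1, 4, 3, 4, 3, 1, 3, 1, 4, 1, 4, 1, 3, 1] (sel (ones 135) ip3 11) = true := by decide +kernel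

theorem rot3_11r : band (Rule.ok (2 * 4) EX RL ⟨3 :: [1, 3, 4, 3, 1, 4, 3, 4, 3, 1, 3, 1, 4, 1, 4, 1, 3, 1], [0, 4, 0], 8, true⟩) (lall (memL L) [1, 3, 4, 3, 1, 4, 3, 4, 3, 1, 3, 1, 4, 1, 4, 1, 3, 1]) = true := by decide +kernel

theorem rot3_12 : T.rot 3 [4, 3, 1, 4, 3, 4, 3, 1, 3, 1, 4, 1, 4, 1, 3, 1, 3, 1] (sel (ones 135) ip3 12) = true := by decide +kernel

theorem rot3_12r : band (Rule.ok (2 * 4) EX RL ⟨3 :: [4, 3, 1, 4, 3, 4, 3, 1, 3, 1, 4, 1, 4, 1, 3, 1, 3, 1], [0, 4, 0, 4, 0], 8, true⟩) (lall (memL L) [4, 3, 1, 4, 3, 4, 3, 1, 3, 1, 4, 1, 4, 1, 3, 1, 3, 1]) = true := by decide +kernel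

theorem rot3_13 : T.rot 3 [4, 3, 1, 3, 1, 4, 1, 4, 1, 3, 1, 3, 1, 3, 4, 3, 1, 4] (sel (ones 135) ip3 13) = true := by decide +kernel

theorem rot3_13r : band (Rule.ok (2 * 4) EX RL ⟨3 :: [4, 3, 1, 3, 1, 4, 1, 4, 1, 3, 1, 3, 1, 3, 4, 3, 1, 4], [6, 0, 6, 0, 4, 0, 4, 6, 4], 8, true⟩) (lall (memL L) [4, 3, 1, 3, 1, 4, 1, 4, 1, 3, 1, 3, 1, 3, 4, 3, 1, 4]) = true := by decide +kernel

theorem rot3_14 : T.rot 3 [1, 4, 1, 4, 1, 3, 1, 3, 1, 3, 4, 3, 1, 4, 3, 4, 3, 1] (sel (ones 135) ip3 14) = true := by decide +kernel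

theorem rot3_14r : band (Rule.ok (2 * 4) EX RL ⟨3 :: [1, 4, 1, 4, 1, 3, 1, 3, 1, 3, 4, 3, 1, 4, 3, 4, 3, 1], [6, 0, 6, 0, 4], 8, true⟩) (lall (memL L) [1, 4, 1, 4, 1, 3, 1, 3, 1, 3, 4, 3, 1, 4, 3, 4, 3, 1]) = true := by decide +kernel

theorem rot3_15 : T.rot 3 [1, 3, 4, 3, 4, 1, 3, 4, 3, 1, 3, 1, 3, 1, 4, 1, 4, 1] (sel (ones 135) ip3 15) = true := by decide +kernel

theorem rot3_15r : band (Rule.ok (2 * 4) EX RL ⟨3 :: [1, 3, 4, 3, 4, 1, 3, 4, 3, 1, 3, 1, 3, 1, 4, 1, 4, 1], [6, 0, 6, 0], 8, false⟩) (lall (memL L) [1, 3, 4, 3, 4, 1, 3, 4, 3, 1, 3, 1, 3, 1, 4, 1, 4, 1]) = true := by decide +kernel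

theorem rot3_16 : T.rot 3 [4, 1, 3, 4, 3, 1, 3, 1, 3, 1, 4, 1, 4, 1, 3, 1, 3, 4] (sel (ones 135) ip3 16) = true := by decide +kernel

theorem rot3_16r : band (Rule.ok (2 * 4) EX RL ⟨3 :: [4, 1, 3, 4, 3, 1, 3, 1, 3, 1, 4, 1, 4, 1, 3, 1, 3, 4], [6, 0, 6, 0, 4, 0, 4, 6], 8, false⟩) (lall (memL L) [4, 1, 3, 4, 3, 1, 3, 1, 3, 1, 4, 1, 4, 1, 3, 1, 3, 4]) = true := by decide +kernel

theorem rot3_17 : T.rot 3 [1, 3, 1, 3, 1, 4, 1, 4, 1, 3, 1, 3, 4, 3, 4, 1, 3, 4] (sel (ones 135) ip3 17) = true := by decide +kernel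

theorem rot3_17r : band (Rule.ok (2 * 4) EX RL ⟨3 :: [1, 3, 1, 3, 1, 4, 1, 4, 1, 3, 1, 3, 4, 3, 4, 1, 3, 4], [0, 4, 0, 4, 0, 4], 8, false⟩) (lall (memL L) [1, 3, 1, 3, 1, 4, 1, 4, 1, 3, 1, 3, 4, 3, 4, 1, 3, 4]) = true := by decide +kernel

theorem rot3_18 : T.rot 3 [1, 3, 1, 3, 2, 4, 1, 2, 1, 4, 1, 2, 4, 1, 4, 2, 1, 2] (sel (ones 135) ip3 18) = true := by decide +kernel

theorem rot3_18r : band (Rule.ok (2 * 4) EX RL ⟨3 :: [1, 3, 1, 3, 2, 4, 1, 2, 1, 4, 1, 2, 4, 1, 4, 2, 1, 2], [], 12, true⟩) (lall (memL L) [1, 3, 1, 3, 2, 4, 1, 2, 1, 4, 1, 2, 4, 1, 4, 2, 1, 2]) = true := by decide +kernel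

theorem rot3_19 : T.rot 3 [1, 3, 2, 4, 1, 2, 1, 4, 1, 2, 4, 1, 4, 2, 1, 2, 3, 1] (sel (ones 135) ip3 19) = true := by decide +kernel

theorem rot3_19r : band (Rule.ok (2 * 4) EX RL ⟨3 :: [1, 3, 2, 4, 1, 2, 1, 4, 1, 2, 4, 1, 4, 2, 1, 2, 3, 1], [4, 0], 12, true⟩) (lall (memL L) [1, 3, 2, 4, 1, 2, 1, 4, 1, 2, 4, 1, 4, 2, 1, 2, 3, 1]) = true := by decide +kernel

theorem rot3_20 : T.rot 3 [2, 4, 1, 2, 1, 4, 1, 2, 4, 1, 4, 2, 1, 2, 3, 1, 3, 1] (sel (ones 135) ip3 20) = true := by decide +kernel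

theorem rot3_20r : band (Rule.ok (2 * 4) EX RL ⟨3 :: [2, 4, 1, 2, 1, 4, 1, 2, 4, 1, 4, 2, 1, 2, 3, 1, 3, 1], [4, 0, 4, 0], 12, true⟩) (lall (memL L) [2, 4, 1, 2, 1, 4, 1, 2, 4, 1, 4, 2, 1, 2, 3, 1, 3, 1]) = true := by decide +kernel

theorem rot3_21 : T.rot 3 [1, 3, 1, 3, 2, 1, 2, 4, 1, 4, 2, 1, 4, 1, 2, 1, 4, 2] (sel (ones 135) ip3 21) = true := by decide +kernel

theorem rot3_21r : band (Rule.ok (2 * 4) EX RL ⟨3 :: [1, 3, 1, 3, 2, 1, 2, 4, 1, 4, 2, 1, 4, 1, 2, 1, 4, 2], [4, 0, 4, 0, 4], 12, false⟩) (lall (memL L) [1, 3, 1, 3, 2, 1, 2, 4, 1, 4, 2, 1, 4, 1, 2, 1, 4, 2]) = true := by decide +kernel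

theorem rot3_22 : T.rot 3 [1, 3, 2, 1, 2, 4, 1, 4, 2, 1, 4, 1, 2, 1, 4, 2, 3, 1] (sel (ones 135) ip3 22) = true := by decide +kernel

theorem rot3_22r : band (Rule.ok (2 * 4) EX RL ⟨3 :: [1, 3, 2, 1, 2, 4, 1, 4, 2, 1, 4, 1, 2, 1, 4, 2, 3, 1], [4, 0, 4], 12, false⟩) (lall (memL L) [1, 3, 2, 1, 2, 4, 1, 4, 2, 1, 4, 1, 2, 1, 4, 2, 3, 1]) = true := by decide +kernel

theorem rot3_23 : T.rot 3 [1, 2, 3, 2, 3, 2, 1, 3, 2, 1, 2, 3, 1, 4, 1, 3, 2, 1, 2] (sel (ones 135) ip3 23) = true := by decide +kernel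

theorem rot3_23r : band (Rule.ok (2 * 4) EX RL ⟨3 :: [1, 2, 3, 2, 3, 2, 1, 3, 2, 1, 2, 3, 1, 4, 1, 3, 2, 1, 2], [4, 2, 0, 2], 13, true⟩) (lall (memL L) [1, 2, 3, 2, 3, 2, 1, 3, 2, 1, 2, 3, 1, 4, 1, 3, 2, 1, 2]) = true := by decide +kernel

theorem rot3_24 : T.rot 3 [2, 3, 2, 1, 3, 2, 1, 2, 3, 1, 4, 1, 3, 2, 1, 2, 3, 1, 2] (sel (ones 135) ip3 24) = true := by decide +kernel

theorem rot3_24r : band (Rule.ok (2 * 4) EX RL ⟨3 :: [2, 3, 2, 1, 3, 2, 1, 2, 3, 1, 4, 1, 3, 2, 1, 2, 3, 1, 2], [4, 2, 0, 2, 4, 0, 2], 13, true⟩) (lall (memL L) [2, 3, 2, 1, 3, 2, 1, 2, 3, 1, 4, 1, 3, 2, 1, 2, 3, 1, 2]) = true := by decide +kernel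

theorem rot3_25 : T.rot 3 [2, 1, 3, 2, 1, 2, 3, 1, 4, 1, 3, 2, 1, 2, 3, 1, 2, 3, 2] (sel (ones 135) ip3 25) = true := by decide +kernel

theorem rot3_25r : band (Rule.ok (2 * 4) EX RL ⟨3 :: [2, 1, 3, 2, 1, 2, 3, 1, 4, 1, 3, 2, 1, 2, 3, 1, 2, 3, 2], [4, 2, 0, 2, 4, 0, 2, 4], 13, false⟩) (lall (memL L) [2, 1, 3, 2, 1, 2, 3, 1, 4, 1, 3, 2, 1, 2, 3, 1, 2, 3, 2]) = true := by decide +kernel

theorem rot3_26 : T.rot 3 [2, 1, 2, 3, 1, 4, 1, 3, 2, 1, 2, 3, 1, 2, 3, 2, 3, 2, 1] (sel (ones 135) ip3 26) = true := by decide +kernel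

theorem rot3_26r : band (Rule.ok (2 * 4) EX RL ⟨3 :: [2, 1, 2, 3, 1, 4, 1, 3, 2, 1, 2, 3, 1, 2, 3, 2, 3, 2, 1], [4, 2, 0, 2, 4], 13, false⟩) (lall (memL L) [2, 1, 2, 3, 1, 4, 1, 3, 2, 1, 2, 3, 1, 2, 3, 2, 3, 2, 1]) = true := by decide +kernel

theorem cov3 : T.cover 3 [(sel (ones 135) ip3 1), (sel (ones 135) ip3 2), (sel (ones 135) ip3 3), (sel (ones 135) ip3 4), (sel (ones 135) ip3 5), (sel (ones 135) ip3 6), (sel (ones 135) ip3 7), (sel (ones 135) ip3 8), (sel (ones 135) ip3 9), (sel (ones 135) ip3 10), (sel (ones 135) ip3 11), (sel (ones 135) ip3 12), (sel (ones 135) ip3 13), (sel (ones 135) ip3 14), (sel (ones 135) ip3 15), (sel (ones 135) ip3 16), (sel (ones 135) ip3 17), (sel (ones 135) ip3 18), (sel (ones 135) ip3 19), (sel (ones 135) ip3 20), (sel (ones 135) ip3 21), (sel (ones 135) ip3 22),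 (sel (ones 135) ip3 23), (sel (ones 135) ip3 24), (sel (ones 135) ip3 25), (sel (ones 135) ip3 26)] = true := by decide +kernel

theorem tl3 : T.treeLt 8 3 = true := by decide +kernel

theorem rot4_1 : T.rot 4 [4] (sel (ones 135) ip4 1) = true := by decide +kernel

theorem rot4_1r : band (Rule.ok (2 * 4) EX RL ⟨4 :: [4], [], 14, false⟩) (lall (memL L) [4]) = true := by decide +kernel

theorem rot4_2 : T.rot 4 [2, 4, 2, 3, 4, 3] (sel (ones 135) ip4 2) = true := by decide +kernel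

theorem rot4_2r : band (Rule.ok (2 * 4) EX RL ⟨4 :: [2, 4, 2, 3, 4, 3], [4], 11, true⟩) (lall (memL L) [2, 4, 2, 3, 4, 3]) = true := by decide +kernel

theorem rot4_3 : T.rot 4 [2, 3, 4, 3, 4, 2] (sel (ones 135) ip4 3) = true := by decide +kernel

theorem rot4_3r : band (Rule.ok (2 * 4) EX RL ⟨4 :: [2, 3, 4, 3, 4, 2], [4, 6, 2], 11, true⟩) (lall (memL L) [2, 3, 4, 3, 4, 2]) = true := by decide +kernel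

theorem rot4_4 : T.rot 4 [3, 4, 2, 4, 2, 3] (sel (ones 135) ip4 4) = true := by decide +kernel

theorem rot4_4r : band (Rule.ok (2 * 4) EX RL ⟨4 :: [3, 4, 2, 4, 2, 3], [6], 11, true⟩) (lall (memL L) [3, 4, 2, 4, 2, 3]) = true := by decide +kernel

theorem rot4_5 : T.rot 4 [3, 2, 4, 2, 4, 3] (sel (ones 135) ip4 5) = true := by decide +kernel

theorem rot4_5r : band (Rule.ok (2 * 4) EX RL ⟨4 :: [3, 2, 4, 2, 4, 3], [], 11, false⟩) (lall (memL L) [3, 2, 4, 2, 4, 3]) = true := by decide +kernel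

theorem rot4_6 : T.rot 4 [2, 4, 3, 4, 3, 2] (sel (ones 135) ip4 6) = true := by decide +kernel

theorem rot4_6r : band (Rule.ok (2 * 4) EX RL ⟨4 :: [2, 4, 3, 4, 3, 2], [6, 4, 2], 11, false⟩) (lall (memL L) [2, 4, 3, 4, 3, 2]) = true := by decide +kernel

theorem rot4_7 : T.rot 4 [3, 4, 3, 2, 4, 2] (sel (ones 135) ip4 7) = true := by decide +kernel

theorem rot4_7r : band (Rule.ok (2 * 4) EX RL ⟨4 :: [3, 4, 3, 2, 4, 2], [4, 6], 11, false⟩) (lall (memL L) [3, 4, 3, 2, 4, 2]) = true := by decide +kernel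

theorem rot4_8 : T.rot 4 [1, 4, 1, 4, 1, 4, 1, 4, 1, 4, 1] (sel (ones 135) ip4 8) = true := by decide +kernel

theorem rot4_8r : band (Rule.ok (2 * 4) EX RL ⟨4 :: [1, 4, 1, 4, 1, 4, 1, 4, 1, 4, 1], [], 1, true⟩) (lall (memL L) [1, 4, 1, 4, 1, 4, 1, 4, 1, 4, 1]) = true := by decide +kernel

theorem rot4_9 : T.rot 4 [1, 3, 1, 4, 1, 3, 1, 3, 4, 1, 3, 1, 4, 1, 3, 1, 3] (sel (ones 135) ip4 9) = true := by decide +kernel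

theorem rot4_9r : band (Rule.ok (2 * 4) EX RL ⟨4 :: [1, 3, 1, 4, 1, 3, 1, 3, 4, 1, 3, 1, 4, 1, 3, 1, 3], [0, 4, 0, 4], 9, true⟩) (lall (memL L) [1, 3, 1, 4, 1, 3, 1, 3, 4, 1, 3, 1, 4, 1, 3, 1, 3]) = true := by decide +kernel

theorem rot4_10 : T.rot 4 [1, 3, 1, 3, 4, 1, 3, 1, 4, 1, 3, 1, 3, 4, 1, 3, 1] (sel (ones 135) ip4 10) = true := by decide +kernel

theorem rot4_10r : band (Rule.ok (2 * 4) EX RL ⟨4 :: [1, 3, 1, 3, 4, 1, 3, 1, 4, 1, 3, 1, 3, 4, 1, 3, 1], [6], 9, true⟩) (lall (memL L) [1, 3, 1, 3, 4, 1, 3, 1, 4, 1, 3, 1, 3, 4, 1, 3, 1]) = true := by decide +kernel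

theorem rot4_11 : T.rot 4 [1, 3, 1, 4, 3, 1, 3, 1, 4, 1, 3, 1, 4, 3, 1, 3, 1] (sel (ones 135) ip4 11) = true := by decide +kernel

theorem rot4_11r : band (Rule.ok (2 * 4) EX RL ⟨4 :: [1, 3, 1, 4, 3, 1, 3, 1, 4, 1, 3, 1, 4, 3, 1, 3, 1], [], 9, false⟩) (lall (memL L) [1, 3, 1, 4, 3, 1, 3, 1, 4, 1, 3, 1, 4, 3, 1, 3, 1]) = true := by decide +kernel

theorem rot4_12 : T.rot 4 [1, 4, 1, 3, 1, 3, 1, 3, 4, 3, 1, 4, 3, 4, 3, 1, 3, 1] (sel (ones 135) ip4 12) = true := by decide +kernel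

theorem rot4_12r : band (Rule.ok (2 * 4) EX RL ⟨4 :: [1, 4, 1, 3, 1, 3, 1, 3, 4, 3, 1, 4, 3, 4, 3, 1, 3, 1], [6, 0, 6], 8, true⟩) (lall (memL L) [1, 4, 1, 3, 1, 3, 1, 3, 4, 3, 1, 4, 3, 4, 3, 1, 3, 1]) = true := by decide +kernel

theorem rot4_13 : T.rot 4 [1, 3, 1, 3, 1, 3, 4, 3, 1, 4, 3, 4, 3, 1, 3, 1, 4, 1] (sel (ones 135) ip4 13) = true := by decide +kernel

theorem rot4_13r : band (Rule.ok (2 * 4) EX RL ⟨4 :: [1, 3, 1, 3, 1, 3, 4, 3, 1, 4, 3, 4, 3, 1, 3, 1, 4, 1], [6], 8, true⟩) (lall (memL L) [1, 3, 1, 3, 1, 3, 4, 3, 1, 4, 3, 4, 3, 1, 3, 1, 4, 1]) = true := by decide +kernel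

theorem rot4_14 : T.rot 4 [1, 3, 1, 3, 4, 3, 4, 1, 3, 4, 3, 1, 3, 1, 3, 1, 4, 1] (sel (ones 135) ip4 14) = true := by decide +kernel

theorem rot4_14r : band (Rule.ok (2 * 4) EX RL ⟨4 :: [1, 3, 1, 3, 4, 3, 4, 1, 3, 4, 3, 1, 3, 1, 3, 1, 4, 1], [6, 0], 8, false⟩) (lall (memL L) [1, 3, 1, 3, 4, 3, 4, 1, 3, 4, 3, 1, 3, 1, 3, 1, 4, 1]) = true := by decide +kernel

theorem rot4_15 : T.rot 4 [1, 4, 2, 1, 2, 3, 1, 3, 1, 3, 2, 4, 1, 2, 1, 4, 1, 2] (sel (ones 135) ip4 15) = true := by decide +kernel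

theorem rot4_15r : band (Rule.ok (2 * 4) EX RL ⟨4 :: [1, 4, 2, 1, 2, 3, 1, 3, 1, 3, 2, 4, 1, 2, 1, 4, 1, 2], [2, 0, 2, 6, 0, 6], 12, true⟩) (lall (memL L) [1, 4, 2, 1, 2, 3, 1, 3, 1, 3, 2, 4, 1, 2, 1, 4, 1, 2]) = true := by decide +kernel

theorem rot4_16 : T.rot 4 [1, 3, 2, 1, 2, 3, 1, 2, 3, 2, 3, 2, 1, 3, 2, 1, 2, 3, 1] (sel (ones 135) ip4 16) = true := by decide +kernel

theorem rot4_16r : band (Rule.ok (2 * 4) EX RL ⟨4 :: [1, 3, 2, 1, 2, 3, 1, 2, 3, 2, 3, 2, 1, 3, 2, 1, 2, 3, 1], [0], 13, false⟩) (lall (memL L) [1, 3, 2, 1, 2, 3, 1, 2, 3, 2, 3, 2, 1, 3, 2, 1, 2, 3, 1]) = true := by decide +kernel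

theorem rot4_17 : T.rot 4 [1, 2, 4, 2, 4, 1, 4, 2, 1, 4, 2, 4, 1, 2, 4, 1, 2, 4, 2, 4, 1] (sel (ones 135) ip4 17) = true := by decide +kernel

theorem rot4_17r : band (Rule.ok (2 * 4) EX RL ⟨4 :: [1, 2, 4, 2, 4, 1, 4, 2, 1, 4, 2, 4, 1, 2, 4, 1, 2, 4, 2, 4, 1], [0, 2, 6, 0, 2, 6, 2, 6, 0], 4, true⟩) (lall (memL L) [1, 2, 4, 2, 4, 1, 4, 2, 1, 4, 2, 4, 1, 2, 4, 1, 2, 4, 2, 4, 1]) = true := by decide +kernel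

theorem rot4_18 : T.rot 4 [1, 2, 4, 1, 2, 4, 2, 4, 1, 4, 1, 2, 4, 2, 4, 1, 4, 2, 1, 4, 2] (sel (ones 135) ip4 18) = true := by decide +kernel

theorem rot4_18r : band (Rule.ok (2 * 4) EX RL ⟨4 :: [1, 2, 4, 1, 2, 4, 2, 4, 1, 4, 1, 2, 4, 2, 4, 1, 4, 2, 1, 4, 2], [6], 4, true⟩) (lall (memL L) [1, 2, 4, 1, 2, 4, 2, 4, 1, 4, 1, 2, 4, 2, 4, 1, 4, 2, 1, 4, 2]) = true := by decide +kernel

theorem cov4 : T.cover 4 [(sel (ones 135) ip4 1), (sel (ones 135) ip4 2), (sel (ones 135) ip4 3), (sel (ones 135) ip4 4), (sel (ones 135) ip4 5), (sel (ones 135) ip4 6), (sel (ones 135) ip4 7), (sel (ones 135) ip4 8), (sel (ones 135) ip4 9), (sel (ones 135) ip4 10), (sel (ones 135) ip4 11), (sel (ones 135) ip4 12), (sel (ones 135) ip4 13), (sel (ones 135) ip4 14), (sel (ones 135) ip4 15), (sel (ones 135) ip4 16), (sel (ones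 135) ip4 17), (sel (ones 135) ip4 18), 1] = true := by decide +kernel

theorem tl4 : T.treeLt 8 4 = true := by decide +kernel

end Cfsg.Agent.Spor.C3K
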